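import Cfsg.Agent.Lib.VonDyck
import Cfsg.Agent.SporadicB.J1Local.Main
import Cfsg.Agent.UGT.EndJ1.Data

/-!
# The local structure of the explicit first Janko group

`isLocal : Local J1` : the explicit matrix group `J1` satisfies the local structure of `SporRec.J1.Defs.Local`:
one class of involutions, centralizer `2 × A5`, centralizers of elements of orders 3 and 5 of order 30.
-/

set_option autoImplicit false

namespace Cfsg.Agent.H413.JOneLocal

open Subgroup
open Cfsg.Agent.SporadicB.J1.Mat Cfsg.Agent.SporadicB.J1.Data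
open Cfsg.Agent.SporadicB.J1.Main
open Cfsg.Spor (jankoX jankoY J1)
open Cfsg.Agent.Lib.VonDyck

/-- the involution `(XY)^5` -/
def u : J1 := ev [0, 1, 0, 1, 0, 1, 0, 1, 0, 1]
/-- an involution commuting with `u` -/
def a : J1 := ev [0, 3, 3, 0, 3, 3, 0, 3, 3]
/-- an element of order 3 commuting with `u` -/
def b : J1 := ev [1, 1, 0, 3, 3, 0, 0, 3, 3, 0, 3, 3]

theorem u_sq : u ^ 2 = 1 := ((rep_ev _).pow 2).eq Rep.one (by decide +kernel)
theorem u_ne : u ≠ 1 := (rep_ev _).ne Rep.one (by decide +kernel)
theorem a_sq : a ^ 2 = 1 := ((rep_ev _).pow 2).eq Rep.one (by decide +kernel)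
theorem b_cu : b ^ 3 = 1 := ((rep_ev _).pow 3).eq Rep.one (by decide +kernel)
theorem b_ne : b ≠ 1 := (rep_ev _).ne Rep.one (by decide +kernel)
theorem ab_pow : (a * b) ^ 5 = 1 := (((rep_ev _).mul (rep_ev _)).pow 5).eq Rep.one (by decide +kernel)
theorem au : a * u = u * a := ((rep_ev _).mul (rep_ev _)).eq ((rep_ev _).mul (rep_ev _)) (by decide +kernel)
theorem bu : b * u = u * b := ((rep_ev _).mul (rep_ev _)).eq ((rep_ev _).mul (rep_ev _)) (by decide +kernel)

theorem orderOf_u : orderOf u = 2 := orderOf_eq_prime u_sq u_ne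

instance fin_J1 : Finite J1 := Cfsg.Agent.UGT.EndJ1.Data.bal.fin

theorem card_J1 : Nat.card J1 = 175560 := isJ1.2

theorem card_cent {x : J1} (hx : orderOf x = 2) : Nat.card (centralizer ({x} : Set J1)) = 120 := by
  obtain ⟨D⟩ := Cfsg.Agent.UGT.EndJ1.Data.exists_dat
  have hxx : x * x = 1 := by rw [← pow_two, ← hx]; exact pow_orderOf_eq_one x
  have hx1 : x ≠ 1 := by rintro rfl; rw [orderOf_one] at hx; omega
  obtain ⟨g, hg⟩ := D.conj_t hxx hx1
  rw [← D.card_C]
  refine Nat.card_congr ?_
  refine ((MulAut.conj g⁻¹).toEquiv).subtypeEquiv ?_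
  intro y
  rw [mem_centralizer_singleton_iff, ← hg]
  change _ ↔ g⁻¹ * y * g⁻¹⁻¹ ∈ centralizer ({D.t} : Set J1)
  rw [mem_centralizer_singleton_iff]
  constructor
  · intro h
    calc g⁻¹ * y * g⁻¹⁻¹ * D.t = g⁻¹ * (y * (g * D.t * g⁻¹)) * g := by group
      _ = g⁻¹ * ((g * D.t * g⁻¹) * y) * g := by rw [h]
      _ = D.t * (g⁻¹ * y * g⁻¹⁻¹) := by group
  · intro h
    calc y * (g * D.t * g⁻¹) = g * ((g⁻¹ * y * g⁻¹⁻¹) * D.t) * g⁻¹ := by group
      _ = g * (D.t * (g⁻¹ * y * g⁻¹⁻¹)) * g⁻¹ := by rw [h]
      _ = (g * D.t * g⁻¹) * y := by group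

/-- the centralizer of the involution `u` is `2 × A5` -/
theorem cent_equiv : Nonempty (centralizer ({u} : Set J1) ≃* Multiplicative (ZMod 2) × alternatingGroup (Fin 5)) := by
  obtain ⟨φ, ha, hb⟩ := exists_hom_alternatingFive (G := J1) a_sq b_cu ab_pow
  have hcent : ∀ x, φ x * u = u * φ x := by
    have h : (⊤ : Subgroup (alternatingGroup (Fin 5))).map φ ≤ centralizer ({u} : Set J1) := by
      rw [← closure_a5_b5, MonoidHom.map_closure, Set.image_pair, ha, hb, closure_le]
      rintro x (rfl | rfl)
      · exact mem_centralizer_singleton_iff.2 au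
      · exact mem_centralizer_singleton_iff.2 bu
    intro x
    exact mem_centralizer_singleton_iff.1 (h (mem_map_of_mem φ (mem_top x)))
  have hinj : Function.Injective φ := by
    rw [← MonoidHom.ker_eq_bot_iff]
    rcases φ.normal_ker.eq_bot_or_eq_top with h | h
    · exact h
    · exfalso
      apply b_ne
      rw [← hb, ← MonoidHom.mem_ker, h]
      exact mem_top _
  have hu : ∀ x, φ x ≠ u := by
    intro x hx
    have hxz : x ∈ center (alternatingGroup (Fin 5)) := by
      rw [mem_center_iff]
      intro y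
      apply hinj
      rw [map_mul, map_mul, hx]
      exact hcent y
    have hcen : center (alternatingGroup (Fin 5)) = ⊥ := by
      rcases (inferInstance : (center (alternatingGroup (Fin 5))).Normal).eq_bot_or_eq_top with h | h
      · exact h
      · exfalso
        have h5 : a5 * b5 = b5 * a5 := ((mem_center_iff.1 (h ▸ mem_top a5)) b5).symm
        revert h5
        decide
    rw [hcen, mem_bot] at hxz
    rw [hxz, map_one] at hx
    exact u_ne hx.symm
  -- the map
  let ι : Multiplicative (ZMod 2) →* J1 := (zpowersHom J1 u).comp 1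
  have huu : u * u = 1 := by rw [← pow_two]; exact u_sq
  let ψ : Multiplicative (ZMod 2) →* J1 :=
    { toFun := fun z => u ^ (Multiplicative.toAdd z).val
      map_one' := by simp
      map_mul' := by
        intro z w
        rw [← pow_add]
        refine pow_eq_pow_iff_modEq.2 ?_
        rw [orderOf_u, toAdd_mul, ZMod.val_add]
        exact Nat.mod_modEq _ _ }
  have hcomm : ∀ z x, Commute (ψ z) (φ x) := fun z x => Commute.pow_left (hcent x).symm _
  let Φ : Multiplicative (ZMod 2) × alternatingGroup (Fin 5) →* J1 := ψ.noncommCoprod φ hcomm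
  have hΦ : Function.Injective Φ := by
    rw [injective_iff_map_eq_one]
    rintro ⟨z, x⟩ h
    have h1 : ψ z * φ x = 1 := h
    have hz : ψ z = 1 ∨ ψ z = u := by
      change u ^ (Multiplicative.toAdd z).val = 1 ∨ u ^ (Multiplicative.toAdd z).val = u
      have h2 : (Multiplicative.toAdd z).val < 2 := ZMod.val_lt _
      interval_cases (Multiplicative.toAdd z).val
      · left; rfl
      · right; exact pow_one u
    have hz1 : ψ z = 1 := by
      rcases hz with hz | hz
      · exact hz
      · exfalso
        rw [hz] at h1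
        apply hu x
        calc φ x = u * (u * φ x) := by rw [← mul_assoc, huu, one_mul]
          _ = u := by rw [h1, mul_one]
    rw [hz1, one_mul] at h1
    have hx : x = 1 := hinj (by rw [h1, map_one])
    have hz2 : z = 1 := by
      by_contra hne
      have h3 : (Multiplicative.toAdd z).val = 1 := by
        have h2 : (Multiplicative.toAdd z).val < 2 := ZMod.val_lt _
        have h4 : (Multiplicative.toAdd z).val ≠ 0 := by
          intro h0
          apply hne
          have := (ZMod.val_eq_zero (Multiplicative.toAdd z)).1 h0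
          exact Multiplicative.toAdd.injective this
        omega
      have h5 : ψ z = u := by
        change u ^ (Multiplicative.toAdd z).val = u
        rw [h3, pow_one]
      rw [hz1] at h5
      exact u_ne h5.symm
    rw [hx, hz2]
    rfl
  have hrange : Φ.range = centralizer ({u} : Set J1) := by
    have hle : Φ.range ≤ centralizer ({u} : Set J1) := by
      rintro _ ⟨⟨z, x⟩, rfl⟩
      rw [mem_centralizer_singleton_iff]
      change (ψ z * φ x) * u = u * (ψ z * φ x)
      have h1 : ψ z * u = u * ψ z := (Commute.refl u).pow_left _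
      rw [mul_assoc, hcent x, ← mul_assoc, h1, mul_assoc]
    apply Subgroup.eq_of_le_of_card_ge hle
    rw [card_cent orderOf_u, ← Nat.card_congr (MonoidHom.ofInjective hΦ).toEquiv, Nat.card_prod,
      card_alternating5]
    have : Nat.card (Multiplicative (ZMod 2)) = 2 := by
      rw [Nat.card_congr Multiplicative.toAdd, Nat.card_zmod]
    rw [this]
  exact ⟨((MulEquiv.subgroupCongr hrange).symm.trans (MonoidHom.ofInjective hΦ).symm)⟩

theorem twoCentral : Cfsg.IsTwoCentralInvolution u := by
  refine ⟨orderOf_u, ?_⟩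
  have hp : IsPGroup 2 (zpowers u) := by
    rw [IsPGroup.iff_card]
    exact ⟨1, by rw [Nat.card_zpowers, orderOf_u, pow_one]⟩
  obtain ⟨P, hP⟩ := hp.exists_le_sylow
  have huP : u ∈ P := hP (mem_zpowers u)
  refine ⟨P, huP, ?_⟩
  obtain ⟨hc, hs⟩ := Cfsg.Agent.UGT.EndJ1.Data.bal.syl P
  intro x hx
  have h1 := hs x hx
  have h2 := hs u huP
  have h3 := hs _ (P.mul_mem hx huP)
  have hx' : x⁻¹ = x := inv_eq_of_mul_eq_one_right h1
  have hu' : u⁻¹ = u := inv_eq_of_mul_eq_one_right h2
  calc x * u = (x * u)⁻¹ := (inv_eq_of_mul_eq_one_right h3).symm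
    _ = u * x := by rw [mul_inv_rev, hx', hu']

/-- **The local structure of `J1`.** -/
theorem isLocal : Cfsg.Agent.SporRec.J1.Defs.Local J1 := by
  have : IsSimpleGroup J1 := isJ1.1
  obtain ⟨e⟩ := cent_equiv
  exact Cfsg.Agent.SporadicB.J1Local.Main.local_of_simple u twoCentral e

end Cfsg.Agent.H413.JOneLocal
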