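import Mathlib

/-!
# Frobenius groups acting on normal subgroups, and lifting them through quotients

* `norm_fix` : `T` finite, `x` normalizes `T`, no `x ^ j` (`0 < j < r`) commutes with a nontrivial element of `T`.
  If `∏_{j<r} x^j v = 1` for all `v` in the abelian group `V` then `v ^ |T|` is fixed by `T`.
* `exists_order` : `V` normal abelian of exponent the prime `s` in the finite group `G`, `T` of order prime to
  `s` not centralizing `V`, `c` normalizes `T` and no `c ^ j` (`0 < j < n`) commutes with a nontrivial element of `T`,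
  `c ^ n = 1`: then `G` has an element of order `n * s`.
* `exists_lift` : lifting a `p`-subgroup and an element normalizing it through a surjection with kernel of order prime
  to `p`.
-/

set_option autoImplicit false

namespace Cfsg.Agent.H413.FrobLift

open Subgroup

universe u v

/-- The norm argument. -/
theorem norm_fix {G V : Type*} [Group G] [CommGroup V] (φ : G →* MulAut V) (T : Subgroup G)
    [Fintype T] (x : G) (hxT : ∀ n ∈ T, x⁻¹ * n * x ∈ T) (r : ℕ) (hr : 0 < r)
    (hx : ∀ v : V, ∏ j ∈ Finset.range r, φ (x ^ j) v = 1)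
    (hfree : ∀ j, 0 < j → j < r → ∀ n ∈ T, n * x ^ j = x ^ j * n → n = 1) (v : V) (m : G) (hm : m ∈ T) :
    φ m (v ^ Nat.card T) = v ^ Nat.card T := by
  classical
  have hxT' : ∀ j : ℕ, ∀ n ∈ T, (x ^ j)⁻¹ * n * x ^ j ∈ T := by
    intro j
    induction j with
    | zero => intro n hn; simpa using hn
    | succ j ih =>
      intro n hn
      have h := ih _ (hxT n hn)
      have h1 : (x ^ (j + 1))⁻¹ * n * x ^ (j + 1) = (x ^ j)⁻¹ * (x⁻¹ * n * x) * x ^ j := by
        rw [pow_succ']
        group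
      rwa [h1]
  -- the norm of `T` is fixed by `T`
  have hfixT : ∀ u : V, φ m (∏ n : T, φ (n : G) u) = ∏ n : T, φ (n : G) u := by
    intro u
    rw [map_prod]
    refine Fintype.prod_equiv (Equiv.mulLeft (⟨m, hm⟩ : T)) _ _ ?_
    intro n
    simp only [Equiv.coe_mulLeft, Subgroup.coe_mul, map_mul, MulAut.mul_apply]
  have h1 : ∏ n : T, ∏ j ∈ Finset.range r, φ ((n : G) * x ^ j * (n : G)⁻¹) v = 1 := by
    apply Finset.prod_eq_one
    intro n _
    have h2 : ∀ j ∈ Finset.range r, φ ((n : G) * x ^ j * (n : G)⁻¹) v =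
        φ (n : G) (φ (x ^ j) (φ (n : G)⁻¹ v)) := by
      intro j _
      simp only [map_mul, MulAut.mul_apply]
    rw [Finset.prod_congr rfl h2, ← map_prod, hx, map_one]
  rw [Finset.prod_comm, ← Finset.prod_erase_mul _ _ (Finset.mem_range.mpr hr)] at h1
  have h3 : ∀ j ∈ (Finset.range r).erase 0, φ m (∏ n : T, φ ((n : G) * x ^ j * (n : G)⁻¹) v) =
      ∏ n : T, φ ((n : G) * x ^ j * (n : G)⁻¹) v := by
    intro j hj
    rw [Finset.mem_erase, Finset.mem_range] at hj
    let τ : T → T := fun n => ⟨(n : G) * (x ^ j * (n : G)⁻¹ * (x ^ j)⁻¹), T.mul_mem n.2 (by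
      have h := hxT' j
      -- `x ^ j` normalizes the finite subgroup `T`
      have hinj : Function.Injective (fun n : T => (⟨(x ^ j)⁻¹ * n * x ^ j, hxT' j n n.2⟩ : T)) := by
        intro a b hab'
        have := congrArg Subtype.val hab'
        simp only at this
        apply Subtype.ext
        have h2 := mul_right_cancel this
        exact mul_left_cancel h2
      obtain ⟨k, hk⟩ := (Finite.injective_iff_surjective.mp hinj) (n⁻¹)
      have hk' : (x ^ j)⁻¹ * (k : G) * x ^ j = (n : G)⁻¹ := congrArg Subtype.val hk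
      rw [← hk']
      have : x ^ j * ((x ^ j)⁻¹ * (k : G) * x ^ j) * (x ^ j)⁻¹ = k := by group
      rw [this]
      exact k.2)⟩
    have hτ : Function.Injective τ := by
      intro n m hnm
      have h4 : (n : G) * (x ^ j * (n : G)⁻¹ * (x ^ j)⁻¹) = (m : G) * (x ^ j * (m : G)⁻¹ * (x ^ j)⁻¹) :=
        congrArg Subtype.val hnm
      have h5 : (m : G)⁻¹ * n ∈ T := T.mul_mem (T.inv_mem m.2) n.2
      have h6 : (m : G)⁻¹ * n = 1 := by
        apply hfree j (Nat.pos_of_ne_zero hj.1) hj.2 _ h5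
        have h7 : (m : G)⁻¹ * n * (x ^ j * (n : G)⁻¹) = x ^ j * (m : G)⁻¹ := by
          have := congrArg (fun z => (m : G)⁻¹ * z * x ^ j) h4
          calc (m : G)⁻¹ * n * (x ^ j * (n : G)⁻¹)
              = (m : G)⁻¹ * ((n : G) * (x ^ j * (n : G)⁻¹ * (x ^ j)⁻¹)) * x ^ j := by group
            _ = (m : G)⁻¹ * ((m : G) * (x ^ j * (m : G)⁻¹ * (x ^ j)⁻¹)) * x ^ j := this
            _ = x ^ j * (m : G)⁻¹ := by group
        calc (m : G)⁻¹ * n * x ^ j = (m : G)⁻¹ * n * (x ^ j * (n : G)⁻¹) * n := by group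
          _ = x ^ j * (m : G)⁻¹ * n := by rw [h7]
          _ = x ^ j * ((m : G)⁻¹ * n) := by group
      exact Subtype.ext (inv_mul_eq_one.mp h6).symm
    have hbij : Function.Bijective τ := Finite.injective_iff_bijective.mp hτ
    have h4 : ∀ n : T, φ ((n : G) * x ^ j * (n : G)⁻¹) v = φ (τ n : G) (φ (x ^ j) v) := by
      intro n
      rw [← MulAut.mul_apply, ← map_mul]
      congr 2
      show (n : G) * x ^ j * (n : G)⁻¹ = (n : G) * (x ^ j * (n : G)⁻¹ * (x ^ j)⁻¹) * x ^ j
      group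
    rw [Finset.prod_congr rfl (fun n _ => h4 n), hbij.prod_comp (fun n : T => φ (n : G) (φ (x ^ j) v))]
    exact hfixT _
  have h5 : v ^ Nat.card T = (∏ j ∈ (Finset.range r).erase 0, ∏ n : T, φ ((n : G) * x ^ j * (n : G)⁻¹) v)⁻¹ := by
    simp only [pow_zero, mul_one, mul_inv_cancel, map_one, MulAut.one_apply, Finset.prod_const,
      Finset.card_univ] at h1
    rw [Nat.card_eq_fintype_card]
    exact (inv_eq_of_mul_eq_one_right h1).symm
  rw [h5, map_inv, map_prod, Finset.prod_congr rfl h3]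

/-- expansion of `(v c) ^ n` -/
theorem mul_pow_conj {G : Type*} [Group G] (V : Subgroup G) [V.Normal] (v : V) (c : G) (n : ℕ) :
    ((v : G) * c) ^ n = (((List.range n).map fun j => (MulAut.conjNormal (c ^ j) : MulAut V) v).prod : V) * c ^ n := by
  induction n with
  | zero => simp
  | succ n ih =>
    rw [pow_succ, ih, List.range_succ, List.map_append, List.prod_append]
    simp only [List.map_cons, List.map_nil, List.prod_cons, List.prod_nil, mul_one, Subgroup.coe_mul,
      MulAut.conjNormal_apply]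
    group

/-- A Frobenius group acting on an elementary abelian normal subgroup. -/
theorem exists_order {G : Type*} [Group G] [Finite G] (V T : Subgroup G) [V.Normal] {s : ℕ} (hs : s.Prime)
    (hVc : ∀ a ∈ V, ∀ b ∈ V, a * b = b * a) (hVs : ∀ a ∈ V, a ^ s = 1)
    (hTs : ¬ s ∣ Nat.card T) {c : G} (hcT : ∀ a ∈ T, c⁻¹ * a * c ∈ T) {n : ℕ} (hn : 0 < n) (hcn : c ^ n = 1)
    (hfree : ∀ j, 0 < j → j < n → ∀ a ∈ T, a * c ^ j = c ^ j * a → a = 1)
    (hact : ∃ a ∈ T, ∃ v ∈ V, a * v ≠ v * a) : ∃ g : G, orderOf g = n * s := by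
  classical
  have := Fintype.ofFinite T
  let _ : CommGroup V := { (inferInstance : Group V) with mul_comm := fun a b => Subtype.ext (hVc a a.2 b b.2) }
  have hcop : (Nat.card T).Coprime s := (Nat.coprime_comm.mp ((Nat.Prime.coprime_iff_not_dvd hs).mpr hTs))
  -- some norm is nontrivial
  have h1 : ∃ v : V, ∏ j ∈ Finset.range n, (MulAut.conjNormal (c ^ j) : MulAut V) v ≠ 1 := by
    by_contra hno
    push Not at hno
    obtain ⟨a, ha, v, hv, hav⟩ := hact
    apply hav
    have h2 := norm_fix (MulAut.conjNormal (H := V)) T c hcT n hn hno hfree ⟨v, hv⟩ a ha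
    -- `v` is a power of `v ^ |T|`
    have h3 : ∃ k : ℕ, (⟨v, hv⟩ : V) = ((⟨v, hv⟩ : V) ^ Nat.card T) ^ k := by
      have hvs : (⟨v, hv⟩ : V) ^ s = 1 := Subtype.ext (hVs v hv)
      obtain ⟨k, hk⟩ := exists_pow_eq_self_of_coprime (n := Nat.card T) (x := (⟨v, hv⟩ : V))
        (Nat.Coprime.coprime_dvd_right (orderOf_dvd_of_pow_eq_one hvs) hcop)
      exact ⟨k, hk.symm⟩
    obtain ⟨k, hk⟩ := h3
    have h4 : (MulAut.conjNormal (H := V) a) ⟨v, hv⟩ = ⟨v, hv⟩ := by
      conv_lhs => rw [hk]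
      rw [map_pow, h2, ← hk]
    have h5 := congrArg Subtype.val h4
    rw [MulAut.conjNormal_apply] at h5
    have h6 : a * v * a⁻¹ = v := h5
    calc a * v = a * v * a⁻¹ * a := by group
      _ = v * a := by rw [h6]
  obtain ⟨v, hv⟩ := h1
  -- `c ^ j ∉ V`
  have hT1 : ∃ a ∈ T, a ≠ 1 := by
    obtain ⟨a, ha, w, -, haw⟩ := hact
    exact ⟨a, ha, fun h => haw (by rw [h]; group)⟩
  have hVT : ∀ a, a ∈ V → a ∈ T → a = 1 := by
    intro a haV haT
    have h2 : orderOf a ∣ s := orderOf_dvd_of_pow_eq_one (hVs a haV)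
    have h3 : orderOf a ∣ Nat.card T := by
      have := orderOf_dvd_natCard (⟨a, haT⟩ : T)
      rwa [← Subgroup.orderOf_coe] at this
    have h4 : orderOf a ∣ 1 := by rw [← hcop]; exact Nat.dvd_gcd h3 h2
    exact orderOf_eq_one_iff.mp (Nat.dvd_one.mp h4)
  have hcV : ∀ j, 0 < j → j < n → c ^ j ∉ V := by
    intro j h0 hj hmem
    obtain ⟨a, ha, ha1⟩ := hT1
    apply ha1
    apply hfree j h0 hj a ha
    have hcT' : ∀ j : ℕ, ∀ b ∈ T, (c ^ j)⁻¹ * b * c ^ j ∈ T := by
      intro j
      induction j with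
      | zero => intro b hb; simpa using hb
      | succ j ih =>
        intro b hb
        have h := ih _ (hcT b hb)
        have h1 : (c ^ (j + 1))⁻¹ * b * c ^ (j + 1) = (c ^ j)⁻¹ * (c⁻¹ * b * c) * c ^ j := by
          rw [pow_succ']
          group
        rwa [h1]
    have h2 : (c ^ j)⁻¹ * (a * c ^ j * a⁻¹) ∈ V :=
      V.mul_mem (V.inv_mem hmem) (‹V.Normal›.conj_mem _ hmem a)
    have h3 : (c ^ j)⁻¹ * (a * c ^ j * a⁻¹) ∈ T := by
      have : (c ^ j)⁻¹ * (a * c ^ j * a⁻¹) = ((c ^ j)⁻¹ * a * c ^ j) * a⁻¹ := by group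
      rw [this]
      exact T.mul_mem (hcT' j a ha) (T.inv_mem ha)
    have h4 := hVT _ h2 h3
    calc a * c ^ j = c ^ j * ((c ^ j)⁻¹ * (a * c ^ j * a⁻¹)) * a := by group
      _ = c ^ j * a := by rw [h4, mul_one]
  have hpow : ((v : G) * c) ^ n = ((∏ j ∈ Finset.range n, (MulAut.conjNormal (c ^ j) : MulAut V) v : V) : G) := by
    rw [mul_pow_conj, hcn, mul_one, Finset.prod_eq_multiset_prod]
    congr 1
  set g : G := (v : G) * c with hg
  refine ⟨g, ?_⟩
  have hmod : ∀ j : ℕ, g ^ j = 1 → n ∣ j := by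
    intro j hj
    rw [hg, mul_pow_conj] at hj
    have h2 : c ^ j ∈ V := by
      rw [← inv_mem_iff]
      rw [mul_eq_one_iff_eq_inv] at hj
      rw [← hj]
      exact Subtype.property _
    have h3 : c ^ (j % n) ∈ V := by
      rw [← Nat.div_add_mod j n, pow_add, pow_mul, hcn, one_pow, one_mul] at h2
      exact h2
    by_contra hnd
    exact hcV (j % n) (Nat.pos_of_ne_zero fun h => hnd (Nat.dvd_of_mod_eq_zero h)) (Nat.mod_lt _ hn) h3
  have h2 : n ∣ orderOf g := hmod _ (pow_orderOf_eq_one g)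
  obtain ⟨k, hk⟩ := h2
  have h3 : orderOf g ∣ n * s := by
    apply orderOf_dvd_of_pow_eq_one
    rw [pow_mul, hpow, ← Subgroup.coe_pow]
    exact hVs _ (Subtype.property _)
  rw [hk] at h3 ⊢
  have h4 : k ∣ s := Nat.dvd_of_mul_dvd_mul_left hn h3
  rcases (Nat.dvd_prime hs).mp h4 with h5 | h5
  · exfalso
    apply hv
    apply Subtype.ext
    have h6 : orderOf g = n := by rw [hk, h5, mul_one]
    have h7 : g ^ n = 1 := h6 ▸ pow_orderOf_eq_one g
    rw [hpow] at h7
    exact h7
  · rw [h5]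

/-- Lifting a `p`-subgroup and an element normalizing it. -/
theorem exists_lift {G : Type u} {H : Type v} [Group G] [Finite G] [Group H] (π : G →* H)
    (hπ : Function.Surjective π) {p : ℕ} (hp : p.Prime) (Q : Subgroup H) (hQ : IsPGroup p Q)
    {c : H} (hc : c ∈ normalizer (Q : Set H)) :
    ∃ (T : Subgroup G) (d : G), IsPGroup p T ∧ T.map π = Q ∧ d ∈ normalizer (T : Set G) ∧ π d = c := by
  classical
  have : Fact p.Prime := ⟨hp⟩
  have : Finite H := Finite.of_surjective π hπ
  set P : Subgroup G := Q.comap π with hP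
  obtain ⟨S⟩ : Nonempty (Sylow p P) := inferInstance
  set T : Subgroup G := (S : Subgroup P).map P.subtype with hT
  have hTp : IsPGroup p T := S.isPGroup'.map P.subtype
  let f : P →* Q := π.subgroupComap Q
  have hf : Function.Surjective f := by
    rintro ⟨y, hy⟩
    obtain ⟨x, rfl⟩ := hπ y
    exact ⟨⟨x, hy⟩, rfl⟩
  have hS' : ((S.mapSurjective hf : Sylow p Q) : Subgroup Q) = ⊤ := by
    have h1 : IsPGroup p (⊤ : Subgroup Q) := hQ.of_equiv Subgroup.topEquiv.symm
    exact ((S.mapSurjective hf).is_maximal' h1 le_top).symm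
  have hmap : T.map π = Q := by
    ext y
    constructor
    · rintro ⟨x, ⟨⟨z, hz⟩, -, rfl⟩, rfl⟩
      exact hz
    · intro hy
      have h1 : (⟨y, hy⟩ : Q) ∈ ((S.mapSurjective hf : Sylow p Q) : Subgroup Q) := by rw [hS']; trivial
      rw [Sylow.coe_mapSurjective] at h1
      obtain ⟨x, hx, hxy⟩ := h1
      exact ⟨x, ⟨x, hx, rfl⟩, congrArg Subtype.val hxy⟩
  obtain ⟨g, hg⟩ := hπ c
  have hgP : g ∈ normalizer (P : Set G) := by
    rw [mem_normalizer_iff]
    intro h
    rw [hP, mem_comap, mem_comap, map_mul, map_mul, map_inv, hg]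
    exact mem_normalizer_iff.mp hc (π h)
  let φ : MulAut P := P.normalizerMonoidHom ⟨g, hgP⟩
  have hφ : ∀ s : P, ((φ s : P) : G) = g * s * g⁻¹ := fun s => rfl
  obtain ⟨x, hx⟩ := MulAction.exists_smul_eq P (φ • S) S
  have hd0 : (x : G) * g ∈ normalizer (T : Set G) := by
    apply mem_normalizer_fintype
    rintro - ⟨s, hs, rfl⟩
    have h1 : φ s ∈ ((φ • S : Sylow p P) : Subgroup P) := by
      rw [Sylow.pointwise_smul_def]
      exact Subgroup.smul_mem_pointwise_smul s φ _ hs
    have h2 : x * φ s * x⁻¹ ∈ ((x • (φ • S) : Sylow p P) : Subgroup P) := by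
      rw [Sylow.coe_subgroup_smul]
      exact Subgroup.smul_mem_pointwise_smul (φ s) (MulAut.conj x) _ h1
    rw [hx] at h2
    refine ⟨_, h2, ?_⟩
    simp only [map_mul, map_inv, subtype_apply, hφ]
    group
  have hxQ : π x ∈ Q := x.2
  rw [← hmap] at hxQ
  obtain ⟨t, ht, htx⟩ := hxQ
  refine ⟨T, t⁻¹ * (x * g), hTp, hmap, ?_, ?_⟩
  · exact (normalizer (T : Set G)).mul_mem (le_normalizer (T.inv_mem ht)) hd0
  · rw [map_mul, map_mul, map_inv, htx, hg]
    group

/-- The normalizer of a Sylow subgroup of a normal subgroup `S` with solvable quotient: it is solvable if `N_S(P)` is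
solvable, and covers `G ⧸ S`. -/
theorem exists_solvable {G : Type u} [Group G] [Finite G] (S : Subgroup G) [S.Normal]
    (hsol : Group.IsSolvable (G ⧸ S)) {p : ℕ} [Fact p.Prime] (P : Sylow p S)
    (hN : Group.IsSolvable (normalizer ((P : Subgroup S) : Set S))) :
    ∃ X : Subgroup G, Group.IsSolvable X ∧ Nat.card (normalizer ((P : Subgroup S) : Set S)) ∣ Nat.card X ∧
      S.index ∣ Nat.card X := by
  classical
  set X : Subgroup G := normalizer (((P : Subgroup S).map S.subtype : Subgroup G) : Set G) with hX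
  have hfr : X ⊔ S = ⊤ := Sylow.normalizer_sup_eq_top P
  have hle : (normalizer ((P : Subgroup S) : Set S)).map S.subtype ≤ X := by
    rintro - ⟨x, hx, rfl⟩
    rw [hX]
    apply mem_normalizer_fintype
    rintro - ⟨y, hy, rfl⟩
    exact ⟨x * y * x⁻¹, (mem_normalizer_iff.mp hx y).mp hy, rfl⟩
  let f : normalizer ((P : Subgroup S) : Set S) →* X :=
    (S.subtype.comp (normalizer ((P : Subgroup S) : Set S)).subtype).codRestrict X fun x => hle ⟨x, x.2, rfl⟩
  let g : X →* G ⧸ S := (QuotientGroup.mk' S).comp X.subtype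
  have hf : Function.Injective f := by
    intro a b hab
    have := congrArg Subtype.val hab
    exact Subtype.ext (Subtype.ext this)
  have hg : Function.Surjective g := by
    intro y
    obtain ⟨y, rfl⟩ := QuotientGroup.mk'_surjective S y
    have hy : y ∈ X ⊔ S := by rw [hfr]; trivial
    rw [← SetLike.mem_coe, Subgroup.mul_normal X S] at hy
    obtain ⟨a, ha, b, hb, rfl⟩ := hy
    refine ⟨⟨a, ha⟩, ?_⟩
    change (QuotientGroup.mk' S) a = (QuotientGroup.mk' S) (a * b)
    rw [map_mul, (QuotientGroup.eq_one_iff b).mpr hb |> fun h => (show (QuotientGroup.mk' S) b = 1 from h), mul_one]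
  refine ⟨X, Group.isSolvable_of_ker_le_range f g ?_, Subgroup.card_dvd_of_injective f hf,
    (Subgroup.card_dvd_of_surjective g hg)⟩
  rintro ⟨x, hx⟩ hxk
  have hxS : x ∈ S := (QuotientGroup.eq_one_iff x).mp hxk
  refine ⟨⟨⟨x, hxS⟩, ?_⟩, rfl⟩
  apply mem_normalizer_fintype
  intro y hy
  have h1 : x * y * x⁻¹ ∈ (P : Subgroup S).map S.subtype :=
    (mem_normalizer_iff.mp hx (y : G)).mp ⟨y, hy, rfl⟩
  obtain ⟨z, hz, hzx⟩ := h1
  have : (⟨x, hxS⟩ : S) * y * (⟨x, hxS⟩ : S)⁻¹ = z := Subtype.ext hzx.symm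
  rw [this]
  exact hz

/-- The preimage of a solvable subgroup under a homomorphism with solvable kernel. -/
theorem solvable_comap {G : Type u} {H : Type v} [Group G] [Group H] (π : G →* H) (hk : Group.IsSolvable π.ker)
    (X : Subgroup H) (hX : Group.IsSolvable X) : Group.IsSolvable (X.comap π) := by
  have hle : π.ker ≤ X.comap π := by
    intro x hx
    rw [mem_comap, MonoidHom.mem_ker.mp hx]
    exact X.one_mem
  refine Group.isSolvable_of_ker_le_range (Subgroup.inclusion hle) (π.subgroupComap X) ?_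
  rintro ⟨x, hx⟩ hxk
  have : π x = 1 := congrArg Subtype.val hxk
  exact ⟨⟨x, this⟩, rfl⟩

/-- and its order -/
theorem card_comap {G : Type u} {H : Type v} [Group G] [Finite G] [Group H] (π : G →* H)
    (hπ : Function.Surjective π) (X : Subgroup H) : Nat.card (X.comap π) = Nat.card π.ker * Nat.card X := by
  have : Finite H := Finite.of_surjective π hπ
  have h1 := (X.comap π).card_mul_index
  have h2 := X.card_mul_index
  have h3 := π.ker.card_mul_index
  rw [index_comap_of_surjective X hπ] at h1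
  rw [index_ker, MonoidHom.range_eq_top.mpr hπ, Subgroup.card_top] at h3
  have h4 : X.index ≠ 0 := index_ne_zero_of_finite
  apply Nat.eq_of_mul_eq_mul_right (Nat.pos_of_ne_zero h4)
  rw [h1, mul_assoc, h2, h3]

/-- A product of solvable subgroups, one normalizing the other, is solvable. -/
theorem solvable_sup {G : Type u} [Group G] (H N : Subgroup G) (hHN : H ≤ normalizer (N : Set G))
    (hH : Group.IsSolvable H) (hN : Group.IsSolvable N) : Group.IsSolvable (H ⊔ N : Subgroup G) := by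
  have i1 := Subgroup.normal_subgroupOf_of_le_normalizer hHN
  have i2 := Subgroup.normal_subgroupOf_sup_of_le_normalizer hHN
  have e := QuotientGroup.quotientInfEquivProdNormalizerQuotient H N hHN
  have h1 : Group.IsSolvable (H ⧸ N.subgroupOf H) :=
    Group.isSolvable_of_surjective (f := QuotientGroup.mk' (N.subgroupOf H)) (QuotientGroup.mk'_surjective _)
  have h2 : Group.IsSolvable ((H ⊔ N : Subgroup G) ⧸ N.subgroupOf (H ⊔ N)) :=
    Group.isSolvable_of_surjective (f := e.toMonoidHom) e.surjective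
  refine Group.isSolvable_of_ker_le_range (Subgroup.inclusion (le_sup_right : N ≤ H ⊔ N))
    (QuotientGroup.mk' (N.subgroupOf (H ⊔ N))) ?_
  intro x hx
  rw [QuotientGroup.ker_mk', mem_subgroupOf] at hx
  exact ⟨⟨x, hx⟩, rfl⟩

end Cfsg.Agent.H413.FrobLift
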