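import Mathlib
import Cfsg.Agent.ClassicalGeometry.AutPSL.Main
import Cfsg.Agent.H413.FrobLift

/-!
# Element orders of `PSL(3,7)`

* `pow_cases` : for `g ∈ SL(3,7)` one of `g ^ 19`, `g ^ 16`, `g ^ 14`, `g ^ 6` is scalar;
* `order_dvd` : the order of each element of `PSL(3,7)` divides `19`, `16`, `14` or `6`;
* explicit elements of order `16`, `19`, `21`-subgroup, etc.
-/

set_option autoImplicit false

namespace Cfsg.Agent.H413.LThreeSeven

open Matrix
open Cfsg.Agent.ClassicalGeometry.AutPSL.Root Cfsg.Agent.ClassicalGeometry.AutPSL.Auto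

/-- Cayley-Hamilton for `3 × 3` matrices of determinant one -/
theorem cube {R : Type*} [CommRing R] (M : Matrix (Fin 3) (Fin 3) R) (h : M.det = 1) :
    M * M * M = (M 0 0 + M 1 1 + M 2 2) • (M * M) - (M 0 0 * M 1 1 - M 0 1 * M 1 0 + (M 0 0 * M 2 2 - M 0 2 * M 2 0) +
      (M 1 1 * M 2 2 - M 1 2 * M 2 1)) • M + 1 := by
  rw [det_fin_three] at h
  ext i j
  fin_cases i <;> fin_cases j <;>
    simp [Matrix.mul_apply, Fin.sum_univ_three] <;> first | linear_combination h | linear_combination (0 : R) * h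

/-- one step of the recursion -/
def stp {R : Type*} [CommRing R] (a b : R) (x : R × R × R) : R × R × R :=
  (x.1 * a + x.2.1, x.2.2 - x.1 * b, x.1)

/-- coordinates of the powers -/
def cf {R : Type*} [CommRing R] (a b : R) : ℕ → R × R × R
  | 0 => (0, 0, 1)
  | n + 1 => stp a b (cf a b n)

theorem pow_cf {R : Type*} [CommRing R] (M : Matrix (Fin 3) (Fin 3) R) {a b : R}
    (h : M * M * M = a • (M * M) - b • M + 1) (n : ℕ) :
    M ^ n = (cf a b n).1 • (M * M) + (cf a b n).2.1 • M + (cf a b n).2.2 • (1 : Matrix (Fin 3) (Fin 3) R) := by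
  induction n with
  | zero => simp [cf]
  | succ n ih =>
    rw [pow_succ, ih]
    simp only [add_mul, smul_mul_assoc, h, cf, stp, one_mul]
    module

theorem cf_cases : ∀ a b : ZMod 7, ((cf a b 19).1 = 0 ∧ (cf a b 19).2.1 = 0) ∨
    ((cf a b 16).1 = 0 ∧ (cf a b 16).2.1 = 0) ∨ ((cf a b 14).1 = 0 ∧ (cf a b 14).2.1 = 0) ∨
    ((cf a b 6).1 = 0 ∧ (cf a b 6).2.1 = 0) := by
  decide

/-- `PSL(3,7)` -/
abbrev P : Type := Matrix.ProjectiveSpecialLinearGroup (Fin 3) (ZMod 7)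

instance fact7 : Fact (Nat.Prime 7) := ⟨by norm_num⟩

theorem pr_pow_eq_one {g : Matrix.SpecialLinearGroup (Fin 3) (ZMod 7)} {a b : ZMod 7} {n : ℕ}
    (h : (g : Matrix (Fin 3) (Fin 3) (ZMod 7)) * g * g = a • ((g : Matrix (Fin 3) (Fin 3) (ZMod 7)) * g) -
      b • (g : Matrix (Fin 3) (Fin 3) (ZMod 7)) + 1)
    (h1 : (cf a b n).1 = 0) (h2 : (cf a b n).2.1 = 0) : (pr g : P) ^ n = 1 := by
  have h3 := pow_cf _ h n
  rw [h1, h2, zero_smul, zero_smul, zero_add, zero_add] at h3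
  have h4 : (pr (g ^ n) : P) = pr 1 := by
    symm
    apply pr_eq_of_smul (c := (cf a b n).2.2)
    rw [Matrix.SpecialLinearGroup.coe_pow, h3, Matrix.SpecialLinearGroup.coe_one]
  rw [← map_pow, h4, map_one]

theorem order_cases (x : P) : x ^ 19 = 1 ∨ x ^ 16 = 1 ∨ x ^ 14 = 1 ∨ x ^ 6 = 1 := by
  obtain ⟨g, rfl⟩ := pr_surjective x
  have h := cube (g : Matrix (Fin 3) (Fin 3) (ZMod 7)) g.2
  rcases cf_cases (g.1 0 0 + g.1 1 1 + g.1 2 2) (g.1 0 0 * g.1 1 1 - g.1 0 1 * g.1 1 0 +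
    (g.1 0 0 * g.1 2 2 - g.1 0 2 * g.1 2 0) + (g.1 1 1 * g.1 2 2 - g.1 1 2 * g.1 2 1)) with ⟨h1, h2⟩ | ⟨h1, h2⟩ |
    ⟨h1, h2⟩ | ⟨h1, h2⟩
  · exact Or.inl (pr_pow_eq_one h h1 h2)
  · exact Or.inr (Or.inl (pr_pow_eq_one h h1 h2))
  · exact Or.inr (Or.inr (Or.inl (pr_pow_eq_one h h1 h2)))
  · exact Or.inr (Or.inr (Or.inr (pr_pow_eq_one h h1 h2)))

/-- The element orders. -/
def L : List ℕ := [1, 2, 3, 4, 6, 7, 8, 14, 16, 19]

theorem orderOf_mem (x : P) : orderOf x ∈ L := by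
  rcases order_cases x with h | h | h | h
  · have := (Nat.mem_divisors.mpr ⟨orderOf_dvd_of_pow_eq_one h, by norm_num⟩)
    exact (by decide : ∀ m ∈ Nat.divisors 19, m ∈ L) _ this
  · have := (Nat.mem_divisors.mpr ⟨orderOf_dvd_of_pow_eq_one h, by norm_num⟩)
    exact (by decide : ∀ m ∈ Nat.divisors 16, m ∈ L) _ this
  · have := (Nat.mem_divisors.mpr ⟨orderOf_dvd_of_pow_eq_one h, by norm_num⟩)
    exact (by decide : ∀ m ∈ Nat.divisors 14, m ∈ L) _ this
  · have := (Nat.mem_divisors.mpr ⟨orderOf_dvd_of_pow_eq_one h, by norm_num⟩)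
    exact (by decide : ∀ m ∈ Nat.divisors 6, m ∈ L) _ this

/-- a non-scalar matrix is not trivial in `PSL` -/
theorem pr_ne_one {g : Matrix.SpecialLinearGroup (Fin 3) (ZMod 7)} (h : g.1 0 1 ≠ 0 ∨ g.1 0 0 ≠ g.1 2 2 ∨ g.1 0 2 ≠ 0) :
    (pr g : P) ≠ 1 := by
  intro h1
  rw [pr_eq_one_iff, Matrix.SpecialLinearGroup.mem_center_iff] at h1
  obtain ⟨r, -, hr⟩ := h1
  rcases h with h | h | h <;> apply h <;> rw [← hr] <;> simp

/-- the element of order `16` -/
def cc : Matrix.SpecialLinearGroup (Fin 3) (ZMod 7) := ⟨!![0, 4, 0; 1, 1, 0; 0, 0, 5], by rw [det_fin_three]; decide⟩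

/-- an element of order `19` -/
def xx : Matrix.SpecialLinearGroup (Fin 3) (ZMod 7) := ⟨!![0, 0, 1; 1, 0, 6; 0, 1, 0], by rw [det_fin_three]; decide⟩

/-- an element of order `3` -/
def ss : Matrix.SpecialLinearGroup (Fin 3) (ZMod 7) := ⟨!![2, 0, 0; 0, 1, 0; 0, 0, 4], by rw [det_fin_three]; decide⟩

/-- elements of order `7` -/
def tt (x y : ZMod 7) : Matrix.SpecialLinearGroup (Fin 3) (ZMod 7) :=
  ⟨!![1, 0, x; 0, 1, y; 0, 0, 1], by rw [det_fin_three]; simp⟩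

theorem tt_mul (x y x' y' : ZMod 7) : tt x y * tt x' y' = tt (x + x') (y + y') := by
  refine Matrix.SpecialLinearGroup.ext _ _ fun i j => ?_
  rw [Matrix.SpecialLinearGroup.coe_mul]
  fin_cases i <;> fin_cases j <;> simp [tt, Matrix.mul_apply, Fin.sum_univ_three, add_comm]

theorem cc_tt (x y : ZMod 7) : cc * tt x y = tt (5 * y) (3 * x + 3 * y) * cc := by
  refine Matrix.SpecialLinearGroup.ext _ _ fun i j => ?_
  rw [Matrix.SpecialLinearGroup.coe_mul, Matrix.SpecialLinearGroup.coe_mul]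
  revert x y
  fin_cases i <;> fin_cases j <;> simp only [tt, cc, Matrix.mul_apply, Fin.sum_univ_three] <;> decide

theorem tt_zero : tt 0 0 = 1 := by
  refine Matrix.SpecialLinearGroup.ext _ _ fun i j => ?_
  fin_cases i <;> fin_cases j <;> simp [tt]

theorem tt_inv (x y : ZMod 7) : (tt x y)⁻¹ = tt (-x) (-y) := by
  rw [inv_eq_iff_mul_eq_one, tt_mul, add_neg_cancel, add_neg_cancel, tt_zero]

theorem tt_pow (x y : ZMod 7) (n : ℕ) : tt x y ^ n = tt (n * x) (n * y) := by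
  induction n with
  | zero => simp [tt_zero]
  | succ n ih =>
    rw [pow_succ, ih, tt_mul]
    push_cast
    congr 1 <;> ring

/-- the action of `cc` -/
def ff (v : ZMod 7 × ZMod 7) : ZMod 7 × ZMod 7 := (5 * v.2, 3 * v.1 + 3 * v.2)

theorem cc_pow_tt (n : ℕ) (v : ZMod 7 × ZMod 7) :
    cc ^ n * tt v.1 v.2 = tt (ff^[n] v).1 (ff^[n] v).2 * cc ^ n := by
  induction n generalizing v with
  | zero => simp
  | succ n ih =>
    rw [pow_succ, mul_assoc, cc_tt, ← mul_assoc]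
    have := ih (ff v)
    rw [Function.iterate_succ_apply]
    rw [show (5 * v.2) = (ff v).1 from rfl, show (3 * v.1 + 3 * v.2) = (ff v).2 from rfl, this, mul_assoc]

theorem ff_eight : ∀ v : ZMod 7 × ZMod 7, ff^[8] v = (-v.1, -v.2) := by
  decide

/-- the elementary abelian subgroup of order `49` -/
def QQ : Subgroup P where
  carrier := {z | ∃ x y : ZMod 7, z = pr (tt x y)}
  one_mem' := ⟨0, 0, by rw [tt_zero, map_one]⟩
  mul_mem' := by
    rintro - - ⟨x, y, rfl⟩ ⟨x', y', rfl⟩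
    exact ⟨x + x', y + y', by rw [← map_mul, tt_mul]⟩
  inv_mem' := by
    rintro - ⟨x, y, rfl⟩
    exact ⟨-x, -y, by rw [← map_inv, tt_inv]⟩

theorem orderOf_tt : orderOf (pr (tt 1 0) : P) = 7 := by
  apply orderOf_eq_prime
  · rw [← map_pow, tt_pow, show ((7 : ℕ) : ZMod 7) = 0 from rfl, zero_mul, zero_mul, tt_zero, map_one]
  · apply pr_ne_one
    right; right
    decide

theorem facts16 : ∃ (Q : Subgroup P) (c : P), IsPGroup 7 Q ∧ Q ≠ ⊥ ∧ c ∈ Subgroup.normalizer (Q : Set P) ∧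
    orderOf c = 16 ∧ ∀ a ∈ Q, c ^ 8 * a = a⁻¹ * c ^ 8 := by
  have h1 : ∀ a ∈ QQ, (pr cc : P) ^ 8 * a = a⁻¹ * (pr cc : P) ^ 8 := by
    rintro - ⟨x, y, rfl⟩
    rw [← map_pow, ← map_mul, cc_pow_tt 8 (x, y), ff_eight, map_mul, ← tt_inv, map_inv]
  have h2 : (pr (tt 1 0) : P) ∈ QQ := ⟨1, 0, rfl⟩
  have h3 : (pr (tt 1 0) : P) ≠ 1 := by
    intro h
    have := orderOf_tt
    rw [h, orderOf_one] at this
    omega
  refine ⟨QQ, pr cc, ?_, ?_, ?_, ?_, h1⟩
  · rintro ⟨-, ⟨x, y, rfl⟩⟩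
    refine ⟨1, Subtype.ext ?_⟩
    change (pr (tt x y) : P) ^ (7 ^ 1) = 1
    rw [pow_one, ← map_pow, tt_pow, show ((7 : ℕ) : ZMod 7) = 0 from rfl, zero_mul, zero_mul, tt_zero, map_one]
  · intro h
    rw [h, Subgroup.mem_bot] at h2
    exact h3 h2
  · apply Subgroup.mem_normalizer_fintype
    rintro - ⟨x, y, rfl⟩
    refine ⟨5 * y, 3 * x + 3 * y, ?_⟩
    rw [← map_inv, ← map_mul, ← map_mul, cc_tt]
    congr 1
    group
  · apply orderOf_eq_prime_pow (p := 2) (n := 3)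
    · intro h
      have h4 := h1 _ h2
      rw [show (2 : ℕ) ^ 3 = 8 from rfl] at h
      rw [h, one_mul, mul_one] at h4
      have h5 : orderOf (pr (tt 1 0) : P) ∣ 2 := by
        apply orderOf_dvd_of_pow_eq_one
        rw [pow_two]
        nth_rewrite 1 [h4]
        rw [inv_mul_cancel]
      rw [orderOf_tt] at h5
      revert h5
      decide
    · exact pr_pow_eq_one (cube _ cc.2) (by decide) (by decide)

/-- the Frobenius map of the field with `343` elements -/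
def yy : Matrix.SpecialLinearGroup (Fin 3) (ZMod 7) :=
  ⟨!![1, 1, 1; 0, 0, 4; 0, 5, 6], by rw [det_fin_three]; decide⟩

theorem yy_xx : yy * xx = xx ^ 7 * yy := by
  refine Matrix.SpecialLinearGroup.ext _ _ fun i j => ?_
  rw [Matrix.SpecialLinearGroup.coe_mul, Matrix.SpecialLinearGroup.coe_mul, Matrix.SpecialLinearGroup.coe_pow,
    pow_cf _ (cube _ xx.2) 7]
  have h : (!![1, 1, 1; 0, 0, 4; 0, 5, 6] * !![0, 0, 1; 1, 0, 6; 0, 1, 0] : Matrix (Fin 3) (Fin 3) (ZMod 7)) =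
    ((cf (0 : ZMod 7) 1 7).1 • (!![0, 0, 1; 1, 0, 6; 0, 1, 0] * !![0, 0, 1; 1, 0, 6; 0, 1, 0] : Matrix (Fin 3) (Fin 3) (ZMod 7)) +
      (cf (0 : ZMod 7) 1 7).2.1 • (!![0, 0, 1; 1, 0, 6; 0, 1, 0] : Matrix (Fin 3) (Fin 3) (ZMod 7)) +
      (cf (0 : ZMod 7) 1 7).2.2 • (1 : Matrix (Fin 3) (Fin 3) (ZMod 7))) * !![1, 1, 1; 0, 0, 4; 0, 5, 6] := by
    decide
  exact congrFun (congrFun h i) j

theorem orderOf_xx : orderOf (pr xx : P) = 19 := by
  have : Fact (Nat.Prime 19) := ⟨by norm_num⟩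
  apply orderOf_eq_prime
  · exact pr_pow_eq_one (cube _ xx.2) (by decide) (by decide)
  · apply pr_ne_one
    right; right
    decide

theorem orderOf_yy : orderOf (pr yy : P) = 3 := by
  have : Fact (Nat.Prime 3) := ⟨by norm_num⟩
  apply orderOf_eq_prime
  · exact pr_pow_eq_one (cube _ yy.2) (by decide) (by decide)
  · apply pr_ne_one
    left
    decide

theorem facts57 : ∃ X : Subgroup P, Group.IsSolvable X ∧ 19 ∣ Nat.card X ∧ 3 ∣ Nat.card X := by
  have h1 : Subgroup.zpowers (pr yy : P) ≤ Subgroup.normalizer ((Subgroup.zpowers (pr xx : P) : Subgroup P) : Set P) := by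
    rw [Subgroup.zpowers_le]
    apply Subgroup.mem_normalizer_fintype
    rintro - ⟨k, rfl⟩
    have h2 : (pr yy : P) * pr xx * (pr yy)⁻¹ = (pr xx) ^ 7 := by
      rw [← map_mul, yy_xx, map_mul, map_pow, mul_inv_cancel_right]
    have h3 : (pr yy : P) * (pr xx) ^ k * (pr yy)⁻¹ = ((pr xx) ^ 7) ^ k := by
      rw [← h2, conj_zpow]
    rw [h3]
    exact Subgroup.zpow_mem _ (Subgroup.pow_mem _ (Subgroup.mem_zpowers _) _) _
  have hs : ∀ z : P, Group.IsSolvable (Subgroup.zpowers z) := fun z => by infer_instance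
  refine ⟨_, Cfsg.Agent.H413.FrobLift.solvable_sup _ _ h1 (hs _) (hs _), ?_, ?_⟩
  · have h4 : Nat.card (Subgroup.zpowers (pr xx : P)) = 19 := by rw [Nat.card_zpowers, orderOf_xx]
    have h5 := Subgroup.card_dvd_of_le (le_sup_right : _ ≤ Subgroup.zpowers (pr yy : P) ⊔ Subgroup.zpowers (pr xx : P))
    rwa [h4] at h5
  · have h4 : Nat.card (Subgroup.zpowers (pr yy : P)) = 3 := by rw [Nat.card_zpowers, orderOf_yy]
    have h5 := Subgroup.card_dvd_of_le (le_sup_left : _ ≤ Subgroup.zpowers (pr yy : P) ⊔ Subgroup.zpowers (pr xx : P))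
    rwa [h4] at h5

theorem facts19 : ∃ x : P, orderOf x = 19 := ⟨pr xx, orderOf_xx⟩

theorem facts3 : ∃ x : P, orderOf x = 3 := by
  refine ⟨pr ss, ?_⟩
  have : Fact (Nat.Prime 3) := ⟨by norm_num⟩
  apply orderOf_eq_prime
  · exact pr_pow_eq_one (cube _ ss.2) (by decide) (by decide)
  · apply pr_ne_one
    right; left
    decide

end Cfsg.Agent.H413.LThreeSeven
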