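import Cfsg.Agent.H413.LThreeSeven
import Cfsg.Agent.CpAut.Psl

/-!
# Extensions of `PSL(3,7)` by outer automorphisms have elements of order `12` or `21`
-/

set_option autoImplicit false

namespace Cfsg.Agent.H413.LThreeSeven

open Matrix Subgroup
open Cfsg.Agent.ClassicalGeometry.AutPSL.Root Cfsg.Agent.ClassicalGeometry.AutPSL.Auto
open Cfsg.Agent.ClassicalGeometry.AutPSL.Main

/-- a matrix of determinant one as an element of `SL` -/
def toSL {n : ℕ} {F : Type*} [Field F] (C : GL (Fin n) F) (h : (C : Matrix (Fin n) (Fin n) F).det = 1) :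
    Matrix.SpecialLinearGroup (Fin n) F := ⟨(C : Matrix (Fin n) (Fin n) F), h⟩

/-- conjugation by a matrix of determinant one is inner -/
theorem lift_cj_of_det {n : ℕ} {F : Type*} [Field F] (C : GL (Fin n) F) (h : (C : Matrix (Fin n) (Fin n) F).det = 1) :
    lift (cj C) = MulAut.conj (pr (toSL C h)) := by
  apply MulEquiv.ext
  intro x
  obtain ⟨x, rfl⟩ := pr_surjective x
  rw [lift_pr, MulAut.conj_apply, ← map_inv, ← map_mul, ← map_mul]
  congr 1
  rw [eq_mul_inv_iff_mul_eq]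
  apply Subtype.ext
  change ((C : Matrix (Fin n) (Fin n) F) * x * ((C⁻¹ : GL (Fin n) F) : Matrix (Fin n) (Fin n) F)) *
    (C : Matrix (Fin n) (Fin n) F) = (C : Matrix (Fin n) (Fin n) F) * x
  rw [mul_assoc, ← Units.val_mul, inv_mul_cancel, Units.val_one, mul_one]

/-- `lift (cj C) = 1` only for scalars -/
theorem scalar_of_lift_cj {n : ℕ} (hn : 2 ≤ n) {F : Type*} [Field F] {C : GL (Fin n) F} (h : lift (cj C) = 1) :
    ∃ r : F, scalar (Fin n) r = (C : Matrix (Fin n) (Fin n) F) := by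
  have : Nontrivial (Fin n) := Fin.nontrivial_iff_two_le.2 hn
  have h1 : lift (cj C * fld (1 : F ≃+* F)) = lift (fld (1 : F ≃+* F)) := by
    rw [map_one, mul_one, h, map_one]
  exact (injective_aux h1).1

/-- the square of `cj A * itr` -/
theorem cj_itr_sq {n : ℕ} {F : Type*} [Field F] (A : GL (Fin n) F) :
    (cj A * itr : MulAut (Matrix.SpecialLinearGroup (Fin n) F)) ^ 2 = cj (A * Cfsg.Agent.CpAut.Psl.itg A) := by
  rw [pow_two, mul_assoc, ← mul_assoc itr, Cfsg.Agent.CpAut.Psl.itr_mul_cj, mul_assoc, itr_mul_itr, mul_one, map_mul]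

/-- `GL₃(7)` -/
abbrev G3 : Type := GL (Fin 3) (ZMod 7)

/-- the matrix used for the graph automorphisms -/
def hh (μ : (ZMod 7)ˣ) : G3 where
  val := !![0, 1, 0; 3, 0, 0; 0, 0, (μ : ZMod 7)]
  inv := !![0, 5, 0; 1, 0, 0; 0, 0, ((μ⁻¹ : (ZMod 7)ˣ) : ZMod 7)]
  val_inv := by
    revert μ
    decide
  inv_val := by
    revert μ
    decide

theorem hh_det (μ : (ZMod 7)ˣ) : ((hh μ : G3) : Matrix (Fin 3) (Fin 3) (ZMod 7)).det = 4 * μ := by
  rw [det_fin_three]
  revert μ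
  decide

/-- `diag(5,3,1)` -/
def dd (n : ℕ) : Matrix (Fin 3) (Fin 3) (ZMod 7) := Matrix.diagonal ![5 ^ n, 3 ^ n, 1]

theorem hh_itg (μ : (ZMod 7)ˣ) :
    ((hh μ * Cfsg.Agent.CpAut.Psl.itg (hh μ) : G3) : Matrix (Fin 3) (Fin 3) (ZMod 7)) = dd 1 := by
  rw [Units.val_mul]
  change (!![0, 1, 0; 3, 0, 0; 0, 0, (μ : ZMod 7)] : Matrix (Fin 3) (Fin 3) (ZMod 7)) *
    (!![0, 5, 0; 1, 0, 0; 0, 0, ((μ⁻¹ : (ZMod 7)ˣ) : ZMod 7)])ᵀ = dd 1
  unfold dd
  revert μ
  decide

theorem dd_mul (m n : ℕ) : dd m * dd n = dd (m + n) := by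
  unfold dd
  rw [Matrix.diagonal_mul_diagonal]
  congr 1
  funext i
  fin_cases i <;> simp [pow_add]

theorem dd_pow {D : G3} (hD : (D : Matrix (Fin 3) (Fin 3) (ZMod 7)) = dd 1) (n : ℕ) :
    ((D ^ n : G3) : Matrix (Fin 3) (Fin 3) (ZMod 7)) = dd n := by
  induction n with
  | zero =>
    rw [pow_zero, Units.val_one]
    unfold dd
    rw [← Matrix.diagonal_one]
    congr 1
    funext i
    fin_cases i <;> simp
  | succ n ih => rw [pow_succ, Units.val_mul, ih, hD, dd_mul]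

theorem dd_scalar {n : ℕ} (h : ∃ r : ZMod 7, scalar (Fin 3) r = dd n) : 6 ∣ n := by
  obtain ⟨r, hr⟩ := h
  have h1 : r = 3 ^ n := by
    have := congrFun (congrFun hr 1) 1
    simpa [dd] using this
  have h2 : r = 1 := by
    have := congrFun (congrFun hr 2) 2
    simpa [dd] using this
  have h3 : (3 : ZMod 7) ^ n = 1 := by rw [← h1, h2]
  have h4 : orderOf (3 : ZMod 7) = 6 := by
    rw [orderOf_eq_iff (by norm_num)]
    refine ⟨by decide, ?_⟩
    intro m hm hm0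
    interval_cases m <;> decide
  rw [← h4]
  exact orderOf_dvd_of_pow_eq_one h3

/-- the matrix used for the diagonal automorphisms -/
def kk (ε δ : (ZMod 7)ˣ) (hε : ε ^ 2 = 1) : G3 where
  val := !![(ε : ZMod 7), ε, 0; 0, ε, 0; 0, 0, (δ : ZMod 7)]
  inv := !![(ε : ZMod 7), -ε, 0; 0, ε, 0; 0, 0, ((δ⁻¹ : (ZMod 7)ˣ) : ZMod 7)]
  val_inv := by
    revert ε δ
    decide
  inv_val := by
    revert ε δ
    decide

theorem kk_det (ε δ : (ZMod 7)ˣ) (hε : ε ^ 2 = 1) :
    ((kk ε δ hε : G3) : Matrix (Fin 3) (Fin 3) (ZMod 7)).det = δ := by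
  rw [det_fin_three]
  revert ε δ
  decide

theorem coe_kk (ε δ : (ZMod 7)ˣ) (hε : ε ^ 2 = 1) :
    ((kk ε δ hε : G3) : Matrix (Fin 3) (Fin 3) (ZMod 7)) =
      !![(ε : ZMod 7), ε, 0; 0, ε, 0; 0, 0, (δ : ZMod 7)] := rfl

theorem kk_pow (ε δ : (ZMod 7)ˣ) (hε : ε ^ 2 = 1) (n : ℕ) :
    ((kk ε δ hε ^ n : G3) : Matrix (Fin 3) (Fin 3) (ZMod 7)) =
      !![(ε : ZMod 7) ^ n, n * (ε : ZMod 7) ^ n, 0; 0, (ε : ZMod 7) ^ n, 0; 0, 0, (δ : ZMod 7) ^ n] := by
  induction n with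
  | zero =>
    rw [pow_zero, Units.val_one]
    ext i j
    fin_cases i <;> fin_cases j <;> simp
  | succ n ih =>
    rw [pow_succ, Units.val_mul, ih, coe_kk]
    ext i j
    fin_cases i <;> fin_cases j <;> (simp [Matrix.mul_apply, Fin.sum_univ_three, pow_succ]; try ring)

theorem kk_scalar {ε δ : (ZMod 7)ˣ} {hε : ε ^ 2 = 1} {n : ℕ}
    (h : ∃ r : ZMod 7, scalar (Fin 3) r = ((kk ε δ hε ^ n : G3) : Matrix (Fin 3) (Fin 3) (ZMod 7))) :
    7 ∣ n ∧ ε ^ n = δ ^ n := by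
  obtain ⟨r, hr⟩ := h
  rw [kk_pow] at hr
  have h1 : (0 : ZMod 7) = n * (ε : ZMod 7) ^ n := by
    have := congrFun (congrFun hr 0) 1
    simpa using this
  have h2 : r = (ε : ZMod 7) ^ n := by
    have := congrFun (congrFun hr 0) 0
    simpa using this
  have h3 : r = (δ : ZMod 7) ^ n := by
    have := congrFun (congrFun hr 2) 2
    simpa using this
  constructor
  · have h4 : (n : ZMod 7) = 0 := by
      rcases mul_eq_zero.mp h1.symm with h | h
      · exact h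
      · exact absurd h (pow_ne_zero _ ε.ne_zero)
    exact (ZMod.natCast_eq_zero_iff n 7).mp h4
  · apply Units.ext
    rw [Units.val_pow_eq_pow_val, Units.val_pow_eq_pow_val, ← h2, ← h3]

theorem kk_21 : ∀ (ε δ : (ZMod 7)ˣ), ε ^ 2 = 1 → (δ ^ 2 ≠ 1) → ((ε = 1 ∧ δ ^ 3 = 1) ∨ (ε = -1 ∧ δ ^ 3 = -1)) →
    ε ^ 21 = δ ^ 21 ∧ ε ^ 7 ≠ δ ^ 7 := by
  decide

theorem eps : ∀ δ : (ZMod 7)ˣ, δ ^ 2 ≠ 1 → (δ ^ 3 = 1 ∨ δ ^ 3 = -1) := by
  decide

/-- the action on `S ≃* PSL(3,7)` -/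
noncomputable def act {Γ : Type*} [Group Γ] (S : Subgroup Γ) [S.Normal] (e : S ≃* P) : Γ →* MulAut P :=
  (MulAut.congr e).toMonoidHom.comp MulAut.conjNormal

theorem act_inj {Γ : Type*} [Group Γ] (S : Subgroup Γ) [S.Normal] (e : S ≃* P)
    (hC : centralizer (S : Set Γ) = ⊥) : Function.Injective (act S e) := by
  rw [injective_iff_map_eq_one]
  intro g hg
  have h1 : MulAut.congr e (MulAut.conjNormal g) = 1 := hg
  have h2 : (MulAut.conjNormal g : MulAut S) = 1 := by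
    rwa [map_eq_one_iff _ (MulAut.congr e).injective] at h1
  have h3 : g ∈ centralizer (S : Set Γ) := by
    rw [mem_centralizer_iff]
    intro s hs
    have h4 := congrArg (fun f : MulAut S => ((f ⟨s, hs⟩ : S) : Γ)) h2
    simp only [MulAut.conjNormal_apply, MulAut.one_apply] at h4
    rw [mul_inv_eq_iff_eq_mul] at h4
    exact h4.symm
  rwa [hC, mem_bot] at h3

theorem act_coe {Γ : Type*} [Group Γ] (S : Subgroup Γ) [S.Normal] (e : S ≃* P) (s : S) :
    act S e (s : Γ) = MulAut.conj (e s) := by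
  apply MulEquiv.ext
  intro x
  change e (MulAut.conjNormal (s : Γ) (e.symm x)) = e s * x * (e s)⁻¹
  have : (MulAut.conjNormal (s : Γ) (e.symm x) : S) = s * e.symm x * s⁻¹ := by
    apply Subtype.ext
    rw [MulAut.conjNormal_apply]
    rfl
  rw [this, map_mul, map_mul, map_inv, e.apply_symm_apply]

theorem no_outer {Γ : Type*} [Group Γ] [Finite Γ] (S : Subgroup Γ) [S.Normal] (e : S ≃* P)
    (hC : centralizer (S : Set Γ) = ⊥) (hω : ∀ g : Γ, orderOf g ∈ L) : S = ⊤ := by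
  have hinj := act_inj S e hC
  have hord : ∀ g : Γ, orderOf (act S e g) ∈ L := fun g => by rw [orderOf_injective _ hinj]; exact hω g
  -- changing by an element of `S`
  have hdet : ∀ A : G3, (A : Matrix (Fin 3) (Fin 3) (ZMod 7)).det ≠ 0 := fun A =>
    (A.isUnit.map (Matrix.detMonoidHom (n := Fin 3) (R := ZMod 7))).ne_zero
  have hmod : ∀ (A B : G3), (A : Matrix (Fin 3) (Fin 3) (ZMod 7)).det = (B : Matrix (Fin 3) (Fin 3) (ZMod 7)).det →
      ∃ s : Γ, act S e s = lift (cj (B * A⁻¹)) := by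
    intro A B hAB
    have h1 : ((B * A⁻¹ : G3) : Matrix (Fin 3) (Fin 3) (ZMod 7)).det = 1 := by
      have h2 : ((B * A⁻¹ : G3) : Matrix (Fin 3) (Fin 3) (ZMod 7)) * (A : Matrix (Fin 3) (Fin 3) (ZMod 7)) = B := by
        rw [← Units.val_mul, inv_mul_cancel_right]
      have h3 := congrArg Matrix.det h2
      rw [det_mul, ← hAB] at h3
      exact mul_right_cancel₀ (hdet A) (h3.trans (one_mul _).symm)
    refine ⟨(e.symm (pr (toSL _ h1)) : S), ?_⟩
    rw [act_coe, e.apply_symm_apply, lift_cj_of_det _ h1]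
  rw [eq_top_iff]
  intro g _
  rcases surj_three 7 le_rfl (act S e g) with ⟨A, σ, hA⟩ | ⟨A, σ, hA⟩
  · have hσ : σ = 1 := Subsingleton.elim _ _
    rw [hσ, map_one, mul_one] at hA
    set δ : (ZMod 7)ˣ := Units.mk0 (A : Matrix (Fin 3) (Fin 3) (ZMod 7)).det (hdet A) with hδ
    have hδv : (δ : ZMod 7) = (A : Matrix (Fin 3) (Fin 3) (ZMod 7)).det := rfl
    by_cases h2 : δ ^ 2 = 1
    · -- a scalar multiple of a matrix of determinant one
      have hδ2 : (A : Matrix (Fin 3) (Fin 3) (ZMod 7)).det ^ 2 = 1 := by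
        rw [← hδv, ← Units.val_pow_eq_pow_val, h2, Units.val_one]
      let D : G3 := Matrix.GeneralLinearGroup.scalar (Fin 3) δ
      have hD : scalar (Fin 3) (δ : ZMod 7) = (D : Matrix (Fin 3) (Fin 3) (ZMod 7)) := rfl
      have h3 : ((D * A : G3) : Matrix (Fin 3) (Fin 3) (ZMod 7)).det = 1 := by
        rw [Units.val_mul, det_mul, ← hD, scalar_apply, det_diagonal, Finset.prod_const, Finset.card_univ,
          Fintype.card_fin, ← hδv]
        rw [hδv]
        calc _ = ((A : Matrix (Fin 3) (Fin 3) (ZMod 7)).det ^ 2) ^ 2 := by ring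
          _ = 1 := by rw [hδ2, one_pow]
      have h4 : (cj A : MulAut (Matrix.SpecialLinearGroup (Fin 3) (ZMod 7))) = cj (D * A) := by
        rw [map_mul, cj_eq_one_of_scalar hD, one_mul]
      have h5 : act S e g = act S e ((e.symm (pr (toSL _ h3)) : S) : Γ) := by
        rw [act_coe, e.apply_symm_apply, ← lift_cj_of_det _ h3, hA, h4]
      rw [hinj h5]
      exact Subtype.property _
    · exfalso
      obtain ⟨ε, hε, hε'⟩ : ∃ ε : (ZMod 7)ˣ, ε ^ 2 = 1 ∧ ((ε = 1 ∧ δ ^ 3 = 1) ∨ (ε = -1 ∧ δ ^ 3 = -1)) := by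
        rcases eps δ h2 with h | h
        · exact ⟨1, one_pow 2, Or.inl ⟨rfl, h⟩⟩
        · exact ⟨-1, by rw [neg_one_sq], Or.inr ⟨rfl, h⟩⟩
      obtain ⟨h21, h7⟩ := kk_21 ε δ hε h2 hε'
      obtain ⟨s, hs⟩ := hmod A (kk ε δ hε) (by rw [kk_det, hδv])
      have h3 : act S e (s * g) = lift (cj (kk ε δ hε)) := by
        rw [map_mul, hs, hA, ← map_mul, ← map_mul, inv_mul_cancel_right]
      have h4 : ∀ n : ℕ, orderOf (act S e (s * g)) ∣ n → 7 ∣ n ∧ ε ^ n = δ ^ n := by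
        intro n hn
        have h5 := orderOf_dvd_iff_pow_eq_one.mp hn
        rw [h3, ← map_pow, ← map_pow] at h5
        exact kk_scalar (scalar_of_lift_cj (by norm_num) h5)
      have h5 : orderOf (act S e (s * g)) ∣ 21 := by
        apply orderOf_dvd_of_pow_eq_one
        rw [h3, ← map_pow, ← map_pow]
        have h6 : scalar (Fin 3) ((ε : ZMod 7) ^ 21) = ((kk ε δ hε ^ 21 : G3) : Matrix (Fin 3) (Fin 3) (ZMod 7)) := by
          rw [kk_pow, show ((21 : ℕ) : ZMod 7) = 0 from rfl, zero_mul]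
          have h7 : (δ : ZMod 7) ^ 21 = (ε : ZMod 7) ^ 21 := by
            rw [← Units.val_pow_eq_pow_val, ← Units.val_pow_eq_pow_val, h21]
          rw [h7]
          ext i j
          fin_cases i <;> fin_cases j <;> simp
        rw [cj_eq_one_of_scalar h6, map_one]
      have h6 := hord (s * g)
      have h7' : orderOf (act S e (s * g)) ∣ 3 ∨ orderOf (act S e (s * g)) ∣ 7 := by
        generalize orderOf (act S e (s * g)) = m at h5 h6
        have : ∀ m ∈ L, m ∣ 21 → m ∣ 3 ∨ m ∣ 7 := by decide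
        exact this m h6 h5
      rcases h7' with h8 | h8
      · have := (h4 3 h8).1
        omega
      · exact h7 (h4 7 h8).2
  · have hσ : σ = 1 := Subsingleton.elim _ _
    rw [hσ, map_one, mul_one] at hA
    exfalso
    set μ : (ZMod 7)ˣ := Units.mk0 (2 * (A : Matrix (Fin 3) (Fin 3) (ZMod 7)).det)
      (mul_ne_zero (by decide) (hdet A)) with hμ
    have hμv : (μ : ZMod 7) = 2 * (A : Matrix (Fin 3) (Fin 3) (ZMod 7)).det := rfl
    obtain ⟨s, hs⟩ := hmod A (hh μ) (by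
      rw [hh_det, hμv, ← mul_assoc, show (4 * 2 : ZMod 7) = 1 from rfl, one_mul])
    have h3 : act S e (s * g) = lift (cj (hh μ) * itr) := by
      rw [map_mul, hs, hA, ← map_mul, ← mul_assoc, ← map_mul, inv_mul_cancel_right]
    have h4 : ∀ n : ℕ, (act S e (s * g)) ^ (2 * n) = lift (cj ((hh μ * Cfsg.Agent.CpAut.Psl.itg (hh μ)) ^ n)) := by
      intro n
      rw [pow_mul, h3, ← map_pow, cj_itr_sq, ← map_pow, ← map_pow]
    have h5 : ∀ n : ℕ, orderOf (act S e (s * g)) ∣ 2 * n → 6 ∣ n := by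
      intro n hn
      have h6 := orderOf_dvd_iff_pow_eq_one.mp hn
      rw [h4] at h6
      obtain ⟨r, hr⟩ := scalar_of_lift_cj (by norm_num) h6
      exact dd_scalar ⟨r, by rw [hr, dd_pow (hh_itg μ)]⟩
    have h6 : orderOf (act S e (s * g)) ∣ 12 := by
      apply orderOf_dvd_of_pow_eq_one
      rw [show 12 = 2 * 6 from rfl, h4]
      have h7 : scalar (Fin 3) (1 : ZMod 7) =
          (((hh μ * Cfsg.Agent.CpAut.Psl.itg (hh μ)) ^ 6 : G3) : Matrix (Fin 3) (Fin 3) (ZMod 7)) := by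
        rw [dd_pow (hh_itg μ)]
        unfold dd
        rw [scalar_apply]
        congr 1
        funext i
        fin_cases i <;> decide
      rw [cj_eq_one_of_scalar h7, map_one]
    have h7 := hord (s * g)
    have h8 : orderOf (act S e (s * g)) ∣ 2 * 2 ∨ orderOf (act S e (s * g)) ∣ 2 * 3 := by
      generalize orderOf (act S e (s * g)) = m at h6 h7
      have : ∀ m ∈ L, m ∣ 12 → m ∣ 2 * 2 ∨ m ∣ 2 * 3 := by decide
      exact this m h7 h6
    rcases h8 with h9 | h9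
    · have := h5 2 h9
      omega
    · have := h5 3 h9
      omega

end Cfsg.Agent.H413.LThreeSeven
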